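import Groth.Agent.Lib.FlatDepth.HomBC
import Groth.Agent.Lib.Hens.Noetherian
import Mathlib

/-!
# Locality of geometric regularity and geometric normality
-/

set_option autoImplicit false
set_option linter.style.haveILetI false

namespace Groth.Agent.FibGR6

universe u

open TensorProduct

/-- A condition `Φ` on algebras over fields which is local and stable under field extensions. -/
structure Geom (Φ : ∀ (k : Type u) [Field k] (S : Type u) [CommRing S] [Algebra k S], Prop) : Prop where
  equiv : ∀ {k S T : Type u} [Field k] [CommRing S] [CommRing T] [Algebra k S] [Algebra k T],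
    (S ≃ₐ[k] T) → Φ k S → Φ k T
  loc : ∀ {k S T : Type u} [Field k] [CommRing S] [CommRing T] [Algebra k S] [Algebra k T] [Algebra S T]
    [IsScalarTower k S T] [IsNoetherianRing S] (r : S) [IsLocalization.Away r T], Φ k S → Φ k T
  glue : ∀ {k S : Type u} [Field k] [CommRing S] [Algebra k S] [IsNoetherianRing S] (s : Set S),
    Ideal.span s = ⊤ → (∀ r ∈ s, Φ k (Localization.Away r)) → Φ k S
  bc : ∀ {k : Type u} [Field k] (S : Type u) [CommRing S] [Algebra k S] [IsNoetherianRing S]
    (K : Type u) [Field K] [Algebra k K] [IsNoetherianRing (K ⊗[k] S)], Φ k S → Φ K (K ⊗[k] S)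
  desc : ∀ {k : Type u} [Field k] (S : Type u) [CommRing S] [Algebra k S] [IsNoetherianRing S]
    (K : Type u) [Field K] [Algebra k K] [IsNoetherianRing (K ⊗[k] S)], Φ K (K ⊗[k] S) → Φ k S

section

variable {k S T : Type u} [Field k] [CommRing S] [CommRing T] [Algebra k S] [Algebra k T] [Algebra S T]
  [IsScalarTower k S T]

theorem isLocalization_tensor (k' : Type u) [Field k'] [Algebra k k'] (r : S) [IsLocalization.Away r T] :
    letI : Algebra (k' ⊗[k] S) (k' ⊗[k] T) :=
      (Algebra.TensorProduct.map (S := k') (AlgHom.id k' k') (IsScalarTower.toAlgHom k S T)).toRingHom.toAlgebra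
    IsLocalization.Away ((1 : k') ⊗ₜ[k] r) (k' ⊗[k] T) := by
  letI : Algebra (k' ⊗[k] S) (k' ⊗[k] T) :=
    (Algebra.TensorProduct.map (S := k') (AlgHom.id k' k') (IsScalarTower.toAlgHom k S T)).toRingHom.toAlgebra
  haveI : IsScalarTower k' (k' ⊗[k] S) (k' ⊗[k] T) := .of_algebraMap_eq fun x => by
    simp [RingHom.algebraMap_toAlgebra]
  have H : (algebraMap (k' ⊗[k] S) (k' ⊗[k] T)).comp Algebra.TensorProduct.includeRight.toRingHom =
      Algebra.TensorProduct.includeRight.toRingHom.comp (algebraMap S T) := RingHom.ext fun x => by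
    simp [RingHom.algebraMap_toAlgebra]
  haveI h := IsLocalization.tensorProduct_tensorProduct_right k k' (Submonoid.powers r) T H
  rwa [Submonoid.map_powers] at h

end

/-- A property of local rings checked at every prime of every finite extension of the field. -/
def GPt (L : ∀ (R : Type u) [CommRing R], Prop) (k : Type u) [Field k] (S : Type u) [CommRing S]
    [Algebra k S] : Prop :=
  ∀ (k' : Type u) [Field k'] [Algebra k k'], Module.Finite k k' →
    ∀ (Q : Ideal (k' ⊗[k] S)) [Q.IsPrime], L (Localization.AtPrime Q)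

variable {L : ∀ (R : Type u) [CommRing R], Prop}

theorem GPt.loc (hL : ∀ {A B : Type u} [CommRing A] [CommRing B], (A ≃+* B) → L A → L B)
    {k S T : Type u} [Field k] [CommRing S] [CommRing T] [Algebra k S] [Algebra k T] [Algebra S T]
    [IsScalarTower k S T] (r : S) [IsLocalization.Away r T] (h : GPt L k S) : GPt L k T := by
  intro k' _ _ hk' Q _
  letI : Algebra (k' ⊗[k] S) (k' ⊗[k] T) :=
    (Algebra.TensorProduct.map (S := k') (AlgHom.id k' k') (IsScalarTower.toAlgHom k S T)).toRingHom.toAlgebra
  haveI := isLocalization_tensor (k := k) (S := S) (T := T) k' r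
  haveI := IsLocalization.isLocalization_isLocalization_atPrime_isLocalization
    (Submonoid.powers ((1 : k') ⊗ₜ[k] r)) (Localization.AtPrime Q) Q
  exact hL (IsLocalization.algEquiv (Q.comap (algebraMap (k' ⊗[k] S) (k' ⊗[k] T))).primeCompl
    (Localization.AtPrime (Q.comap (algebraMap (k' ⊗[k] S) (k' ⊗[k] T)))) (Localization.AtPrime Q)).toRingEquiv
    (h k' hk' _)

theorem GPt.glue (hL : ∀ {A B : Type u} [CommRing A] [CommRing B], (A ≃+* B) → L A → L B)
    {k S : Type u} [Field k] [CommRing S] [Algebra k S] (s : Set S) (hs : Ideal.span s = ⊤)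
    (h : ∀ r ∈ s, GPt L k (Localization.Away r)) : GPt L k S := by
  intro k' _ _ hk' Q hQ
  obtain ⟨r, hr, hrQ⟩ : ∃ r ∈ s, (1 : k') ⊗ₜ[k] r ∉ Q := by
    by_contra hc
    push Not at hc
    refine hQ.ne_top ((Ideal.eq_top_iff_one _).2 ?_)
    have h1 : (1 : S) ∈ Ideal.comap (Algebra.TensorProduct.includeRight : S →ₐ[k] k' ⊗[k] S) Q :=
      (Ideal.span_le (I := Ideal.comap (Algebra.TensorProduct.includeRight : S →ₐ[k] k' ⊗[k] S) Q)).2 hc
        (hs ▸ Submodule.mem_top)
    exact h1
  letI : Algebra (k' ⊗[k] S) (k' ⊗[k] Localization.Away r) :=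
    (Algebra.TensorProduct.map (S := k') (AlgHom.id k' k') (IsScalarTower.toAlgHom k S (Localization.Away r))).toRingHom.toAlgebra
  haveI := isLocalization_tensor (k := k) (S := S) (T := Localization.Away r) k' r
  have hd : Disjoint (Submonoid.powers ((1 : k') ⊗ₜ[k] r) : Set (k' ⊗[k] S)) Q := by
    rw [Set.disjoint_left]
    rintro x ⟨n, rfl⟩ hx
    exact hrQ (hQ.mem_of_pow_mem n hx)
  let Q' := Ideal.map (algebraMap (k' ⊗[k] S) (k' ⊗[k] Localization.Away r)) Q
  haveI : Q'.IsPrime := IsLocalization.isPrime_of_isPrime_disjoint (Submonoid.powers ((1 : k') ⊗ₜ[k] r)) _ Q hQ hd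
  have hcm : Q'.comap (algebraMap (k' ⊗[k] S) (k' ⊗[k] Localization.Away r)) = Q :=
    IsLocalization.comap_map_of_isPrime_disjoint _ _ hQ hd
  haveI := IsLocalization.isLocalization_isLocalization_atPrime_isLocalization
    (Submonoid.powers ((1 : k') ⊗ₜ[k] r)) (Localization.AtPrime Q') Q'
  have key : ∀ (P : Ideal (k' ⊗[k] S)) [P.IsPrime], P = Q → L (Localization.AtPrime P) → L (Localization.AtPrime Q) := by
    intro P _ e h; subst e; exact h
  exact key _ hcm (hL (IsLocalization.algEquiv
    (Q'.comap (algebraMap (k' ⊗[k] S) (k' ⊗[k] Localization.Away r))).primeCompl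
    (Localization.AtPrime (Q'.comap (algebraMap (k' ⊗[k] S) (k' ⊗[k] Localization.Away r))))
    (Localization.AtPrime Q')).toRingEquiv.symm (h r hr k' hk' Q'))

/-- Being a regular local ring, as a predicate. -/
abbrev RegL (R : Type u) [CommRing R] : Prop := IsRegularLocalRing R

/-- Being a normal domain, as a predicate. -/
abbrev NorL (R : Type u) [CommRing R] : Prop := IsDomain R ∧ IsIntegrallyClosed R

theorem regL_equiv {A B : Type u} [CommRing A] [CommRing B] (e : A ≃+* B) (h : RegL A) : RegL B :=
  haveI : IsRegularLocalRing A := h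
  IsRegularLocalRing.of_ringEquiv e

theorem norL_equiv {A B : Type u} [CommRing A] [CommRing B] (e : A ≃+* B) (h : NorL A) : NorL B := by
  haveI := h.1
  haveI : IsDomain B := MulEquiv.isDomain _ e.symm.toMulEquiv
  haveI := h.2
  exact ⟨inferInstance, IsIntegrallyClosed.of_equiv e⟩

theorem geomRegular_iff (k S : Type u) [Field k] [CommRing S] [Algebra k S] [IsNoetherianRing S] :
    CAlg.IsGeometricallyRegular k S ↔ GPt RegL k S := by
  constructor
  · intro h k' _ _ hk' Q _
    haveI := h k' hk'
    exact IsRegularRing.isRegularLocalRing_localization Q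
  · intro h k' _ _ hk'
    haveI := hk'
    haveI := FlatDepth.isNoetherianRing_tensor_essFinite (k := k) S k'
    exact isRegularRing_iff.2 fun Q _ => h k' hk' Q

theorem geomNormal_iff (k S : Type u) [Field k] [CommRing S] [Algebra k S] :
    EGA4.IsGeomNormal k S ↔ GPt NorL k S := Iff.rfl

theorem geom_regular : Geom @CAlg.IsGeometricallyRegular.{u} where
  equiv := FlatDepth.geomRegular_of_algEquiv
  loc {k S T} _ _ _ _ _ _ _ _ r _ h := by
    haveI : IsNoetherianRing T := IsLocalization.isNoetherianRing (Submonoid.powers r) T inferInstance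
    exact (geomRegular_iff k T).2 (GPt.loc regL_equiv r ((geomRegular_iff k S).1 h))
  glue {k S} _ _ _ _ s hs h := by
    refine (geomRegular_iff k S).2 (GPt.glue regL_equiv s hs fun r hr => ?_)
    haveI : IsNoetherianRing (Localization.Away r) :=
      IsLocalization.isNoetherianRing (Submonoid.powers r) _ inferInstance
    exact (geomRegular_iff k _).1 (h r hr)
  bc := FlatDepth.geomRegular_baseChange
  desc := FlatDepth.geomRegular_of_baseChange

theorem geom_normal : Geom @EGA4.IsGeomNormal.{u} where
  equiv := FlatDepth.geomNormal_of_algEquiv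
  loc r _ h := GPt.loc norL_equiv r h
  glue s hs h := GPt.glue norL_equiv s hs h
  bc := FlatDepth.geomNormal_baseChange
  desc := FlatDepth.geomNormal_of_baseChange

/-- The fibre condition for a ring map out of a field. -/
def GR (Φ : ∀ (k : Type u) [Field k] (S : Type u) [CommRing S] [Algebra k S], Prop)
    {k S : Type u} [Field k] [CommRing S] (φ : k →+* S) : Prop :=
  letI := φ.toAlgebra
  IsNoetherianRing S ∧ Φ k S

variable {Φ : ∀ (k : Type u) [Field k] (S : Type u) [CommRing S] [Algebra k S], Prop}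

theorem gr_equiv (hΦ : Geom Φ) {k S T : Type u} [Field k] [CommRing S] [CommRing T] {φ : k →+* S} {ψ : k →+* T}
    (e : S ≃+* T) (he : e.toRingHom.comp φ = ψ) (h : GR Φ φ) : GR Φ ψ := by
  letI := φ.toAlgebra
  letI := ψ.toAlgebra
  haveI := h.1
  exact ⟨isNoetherianRing_of_ringEquiv S e,
    hΦ.equiv (AlgEquiv.ofRingEquiv (f := e) fun x => RingHom.congr_fun he x) h.2⟩

theorem gr_bc (hΦ : Geom Φ) {k K S T : Type u} [Field k] [Field K] [CommRing S] [CommRing T]
    [Algebra k K] [Algebra.EssFiniteType k K] [Algebra k S] (e : K ⊗[k] S ≃+* T) {ψ : K →+* T}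
    (he : e.toRingHom.comp (algebraMap K (K ⊗[k] S)) = ψ) :
    GR Φ (algebraMap k S) ↔ GR Φ ψ := by
  letI := ψ.toAlgebra
  let e' : K ⊗[k] S ≃ₐ[K] T := AlgEquiv.ofRingEquiv (f := e) fun x => RingHom.congr_fun he x
  constructor
  · intro h
    haveI : IsNoetherianRing S := h.1
    have h2 : Φ k S := by
      have := h.2
      convert this using 1
      exact Algebra.algebra_ext _ _ fun _ => rfl
    haveI : IsNoetherianRing (K ⊗[k] S) := FlatDepth.isNoetherianRing_tensor_essFinite (k := k) S K
    exact ⟨isNoetherianRing_of_ringEquiv _ e, hΦ.equiv e' (hΦ.bc S K h2)⟩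
  · intro h
    haveI : IsNoetherianRing T := h.1
    haveI : IsNoetherianRing (K ⊗[k] S) := isNoetherianRing_of_ringEquiv T e.symm
    have h2 : Φ K T := by
      have := h.2
      exact this
    haveI : IsNoetherianRing (S ⊗[k] K) :=
      isNoetherianRing_of_ringEquiv _ (Algebra.TensorProduct.comm k K S).toRingEquiv
    haveI : Module.FaithfullyFlat S (S ⊗[k] K) := inferInstance
    haveI hN : IsNoetherianRing S := Hens.isNoetherianRing_of_faithfullyFlat S (S ⊗[k] K)
    refine ⟨hN, ?_⟩
    have := hΦ.desc S K (hΦ.equiv e'.symm h2)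
    convert this using 1
    exact Algebra.algebra_ext _ _ fun _ => rfl

theorem gr_field (hΦ : Geom Φ) {k K S : Type u} [Field k] [Field K] [CommRing S] (e : k ≃+* K)
    (ψ : K →+* S) : GR Φ ψ ↔ GR Φ (ψ.comp e.toRingHom) := by
  letI := e.toRingHom.toAlgebra
  letI := (ψ.comp e.toRingHom).toAlgebra
  letI := ψ.toAlgebra
  haveI : IsScalarTower k K S := .of_algebraMap_eq fun _ => rfl
  haveI : Algebra.EssFiniteType k K :=
    Algebra.EssFiniteType.of_surjective (Algebra.ofId k K) e.surjective
  haveI : Module.Finite k K := Module.Finite.of_surjective (Algebra.linearMap k K) e.surjective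
  let a : K ⊗[k] S ≃+* S :=
    (Algebra.TensorProduct.congr (AlgEquiv.ofBijective (Algebra.ofId k K) e.bijective).symm AlgEquiv.refl).toRingEquiv.trans
      (Algebra.TensorProduct.lid k S).toRingEquiv
  refine (gr_bc hΦ a (ψ := ψ) (RingHom.ext fun x => ?_)).symm
  obtain ⟨y, rfl⟩ := e.surjective x
  have hy : (AlgEquiv.ofBijective (Algebra.ofId k K) e.bijective).symm (e y) = y :=
    (AlgEquiv.ofBijective (Algebra.ofId k K) e.bijective).symm_apply_apply y
  simp [a, Algebra.TensorProduct.algebraMap_apply, hy, Algebra.smul_def]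
  rfl

theorem gr_loc (hΦ : Geom Φ) {k S T : Type u} [Field k] [CommRing S] [CommRing T] [Algebra S T] {φ : k →+* S}
    (r : S) [IsLocalization.Away r T] (h : GR Φ φ) : GR Φ ((algebraMap S T).comp φ) := by
  letI := φ.toAlgebra
  letI := ((algebraMap S T).comp φ).toAlgebra
  haveI : IsScalarTower k S T := .of_algebraMap_eq fun _ => rfl
  haveI := h.1
  exact ⟨IsLocalization.isNoetherianRing (Submonoid.powers r) T inferInstance, hΦ.loc r h.2⟩

end Groth.Agent.FibGR6
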