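import Groth.Agent.Lib.FibGR6.Alg
import Groth.Agent.Lib.Goren15.BaseChange
import Groth.Agent.Lib.AlgSpDescent.SchemeSource
import Mathlib

/-!
# Geometric conditions on scheme fibres versus fibre rings
-/

set_option autoImplicit false
set_option linter.style.haveILetI false
set_option backward.isDefEq.respectTransparency.types false

namespace Groth.Agent.FibGR6

universe u

open CategoryTheory CategoryTheory.Limits AlgebraicGeometry TensorProduct Opposite

variable {Φ : ∀ (k : Type u) [Field k] (S : Type u) [CommRing S] [Algebra k S], Prop}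

/-- An affine piece of a pullback over an affine chart. -/
theorem exists_chart {P X Y : Scheme.{u}} {A B C : Type u} [CommRing A] [CommRing B] [CommRing C]
    [Algebra A B] [Algebra A C] {a : P ⟶ X} {b : P ⟶ Spec (.of C)} {f : X ⟶ Y} {g : Spec (.of C) ⟶ Y}
    (h : IsPullback a b f g) (j : Spec (.of B) ⟶ X) [IsOpenImmersion j] (r : Spec (.of A) ⟶ Y) [Mono r]
    (w : j ≫ f = Spec.map (CommRingCat.ofHom (algebraMap A B)) ≫ r)
    (hg : Spec.map (CommRingCat.ofHom (algebraMap A C)) ≫ r = g) :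
    ∃ i : Spec (.of (C ⊗[A] B)) ⟶ P, IsOpenImmersion i ∧
      i ≫ b = Spec.map (CommRingCat.ofHom (algebraMap C (C ⊗[A] B))) ∧
      Set.range i = a ⁻¹' Set.range j := by
  have sq := (isPullback_SpecMap_of_isPushout _ _ _ _ (CommRingCat.isPushout_tensorProduct A C B)).flip
  let inr := Spec.map (CommRingCat.ofHom (S := C ⊗[A] B)
    (Algebra.TensorProduct.includeRight (R := A) (A := C) (B := B)).toRingHom)
  let inl := Spec.map (CommRingCat.ofHom (algebraMap C (C ⊗[A] B)))
  have sq' : IsPullback inr inl (Spec.map (CommRingCat.ofHom (algebraMap A B)))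
      (Spec.map (CommRingCat.ofHom (algebraMap A C))) := sq
  have outer : IsPullback inr inl (j ≫ f) g := by
    rw [w, ← hg]
    exact ⟨⟨by rw [sq'.w_assoc]⟩, ⟨PullbackCone.IsLimit.mk _
      (fun s => sq'.lift s.fst s.snd ((cancel_mono r).1 (by simp only [Category.assoc]; exact s.condition)))
      (fun s => sq'.lift_fst _ _ _) (fun s => sq'.lift_snd _ _ _)
      (fun s m h1 h2 => sq'.hom_ext (by rw [sq'.lift_fst]; exact h1) (by rw [sq'.lift_snd]; exact h2))⟩⟩
  let i := h.lift (inr ≫ j) inl (by rw [Category.assoc]; exact outer.w)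
  have hib : i ≫ b = inl := h.lift_snd _ _ _
  have hia : i ≫ a = inr ≫ j := h.lift_fst _ _ _
  have top : IsPullback inr i j a :=
    IsPullback.of_bot (v₂₁ := b) (v₂₂ := f) (h₃₁ := g) (by rw [hib]; exact outer) hia.symm h
  refine ⟨i, MorphismProperty.of_isPullback top.flip.flip inferInstance, hib, ?_⟩
  rw [← top.flip.isoPullback_hom_fst, Scheme.Hom.comp_base, TopCat.coe_comp, Set.range_comp,
    Set.range_eq_univ.mpr top.flip.isoPullback.hom.surjective, Set.image_univ,
    Scheme.Pullback.range_fst]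

section

variable {k : Type u} [Field k] {Z : Scheme.{u}}

/-- The structure map of the sections over an open of a scheme over a field. -/
noncomputable def secHom (q : Z ⟶ Spec (CommRingCat.of k)) (W : Z.Opens) : k →+* Γ(Z, W) :=
  ((Scheme.ΓSpecIso (CommRingCat.of k)).inv ≫ q.appTop ≫ Z.presheaf.map (homOfLE le_top).op).hom

/-- Every affine piece satisfies the condition. -/
def D (Φ : ∀ (k : Type u) [Field k] (S : Type u) [CommRing S] [Algebra k S], Prop)
    (q : Z ⟶ Spec (CommRingCat.of k)) : Prop :=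
  ∀ W : Z.Opens, IsAffineOpen W → GR Φ (secHom q W)

variable (hΦ : Geom Φ)

include hΦ in
theorem gr_range (q : Z ⟶ Spec (CommRingCat.of k)) {S : Type u} [CommRing S] (i : Spec (.of S) ⟶ Z)
    [IsOpenImmersion i] (φ : k →+* S) (hi : i ≫ q = Spec.map (CommRingCat.ofHom φ)) :
    GR Φ (secHom q i.opensRange) ↔ GR Φ φ := by
  rw [← Scheme.Hom.image_top_eq_opensRange]
  let e := (i.appIso ⊤ ≪≫ Scheme.ΓSpecIso (CommRingCat.of S)).commRingCatIsoToRingEquiv
  have key : e.toRingHom.comp (secHom q (i ''ᵁ ⊤)) = φ := by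
    have h1 : ((Scheme.ΓSpecIso (CommRingCat.of k)).inv ≫ q.appTop ≫ Z.presheaf.map (homOfLE le_top).op) ≫
        (i.appIso ⊤).hom ≫ (Scheme.ΓSpecIso (CommRingCat.of S)).hom = CommRingCat.ofHom φ := by
      have h2 : (q.appTop ≫ Z.presheaf.map (homOfLE le_top).op) ≫ (i.appIso ⊤).hom = (i ≫ q).appTop := by
        rw [Scheme.Hom.appIso_hom']
        exact (Scheme.Hom.appLE_comp_appLE i q ⊤ (i ''ᵁ ⊤) ⊤ le_top _).trans (Scheme.Hom.app_eq_appLE _).symm
      rw [Category.assoc, ← Category.assoc (q.appTop ≫ _), h2, hi, Scheme.ΓSpecIso_naturality, Iso.inv_hom_id_assoc]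
    exact RingHom.ext fun x => congrArg (fun ψ => ψ.hom x) h1
  constructor
  · exact gr_equiv hΦ e key
  · refine gr_equiv hΦ e.symm ?_
    rw [← key, ← RingHom.comp_assoc, RingEquiv.symm_toRingHom_comp_toRingHom, RingHom.id_comp]

include hΦ in
theorem D_of_charts (q : Z ⟶ Spec (CommRingCat.of k))
    (h : ∀ z : Z, ∃ (S : Type u) (_ : CommRing S) (i : Spec (.of S) ⟶ Z) (_ : IsOpenImmersion i) (φ : k →+* S),
      i ≫ q = Spec.map (CommRingCat.ofHom φ) ∧ GR Φ φ ∧ z ∈ Set.range i) : D Φ q := by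
  choose S _ i _ φ hi hφ hz using h
  intro W hW
  have hcomp : ∀ {U V : Z.Opens} (hVU : V ≤ U),
      (Z.presheaf.map (homOfLE hVU).op).hom.comp (secHom q U) = secHom q V := by
    intro U V hVU
    simp only [secHom]
    rw [← CommRingCat.hom_comp, Category.assoc, Category.assoc, ← Functor.map_comp]
    rfl
  refine of_affine_open_cover (P := fun U : Z.affineOpens => GR Φ (secHom q U.1))
    (fun z => ⟨(i z).opensRange, isAffineOpen_opensRange (i z)⟩) ?_ ⟨W, hW⟩ ?_ ?_ ?_
  · exact top_unique fun z _ => TopologicalSpace.Opens.mem_iSup.2 ⟨z, hz z⟩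
  · intro U r hU
    letI := (Z.presheaf.map (homOfLE (Z.basicOpen_le r)).op).hom.toAlgebra
    haveI : IsLocalization.Away r Γ(Z, Z.basicOpen r) := U.2.isLocalization_basicOpen r
    have := gr_loc (T := Γ(Z, Z.basicOpen r)) hΦ r hU
    rwa [RingHom.algebraMap_toAlgebra, hcomp] at this
  · intro U s hs hall
    letI := (secHom q U.1).toAlgebra
    have hloc : ∀ r ∈ s, IsNoetherianRing (Localization.Away r) ∧ Φ k (Localization.Away r) := by
      intro r hr
      letI := (Z.presheaf.map (homOfLE (Z.basicOpen_le r)).op).hom.toAlgebra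
      haveI : IsLocalization.Away r Γ(Z, Z.basicOpen r) := U.2.isLocalization_basicOpen r
      let e := (IsLocalization.algEquiv (Submonoid.powers r) Γ(Z, Z.basicOpen r) (Localization.Away r))
      have h1 : GR Φ (secHom q (Z.basicOpen r)) := hall ⟨r, hr⟩
      have h2 := gr_equiv hΦ e.toRingEquiv (ψ := algebraMap k (Localization.Away r)) (RingHom.ext fun x => by
        rw [← hcomp (Z.basicOpen_le r)]
        exact (e.commutes (secHom q U.1 x)).trans (IsScalarTower.algebraMap_apply k Γ(Z, U.1) _ x).symm) h1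
      refine ⟨h2.1, ?_⟩
      convert h2.2 using 1
      exact Algebra.algebra_ext _ _ fun _ => rfl
    haveI : IsNoetherianRing Γ(Z, U.1) := isNoetherianRing_of_away s hs fun r => (hloc r.1 r.2).1
    exact ⟨inferInstance, hΦ.glue (s : Set Γ(Z, U.1)) hs fun r hr => (hloc r hr).2⟩
  · exact fun z => (gr_range hΦ q (i z) (φ z) (hi z)).2 (hφ z)

end

/-- The condition is insensitive to finitely generated extensions of the base field. -/
theorem D_fieldExt_iff (hΦ : Geom Φ) {k K : Type u} [Field k] [Field K] [Algebra k K] [Algebra.EssFiniteType k K]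
    {Z Z' : Scheme.{u}} {q : Z ⟶ Spec (CommRingCat.of k)} {q' : Z' ⟶ Spec (CommRingCat.of K)} {p : Z' ⟶ Z}
    (h : IsPullback p q' q (Spec.map (CommRingCat.ofHom (algebraMap k K)))) : D Φ q' ↔ D Φ q := by
  have key : ∀ (W : Z.Opens) (hW : IsAffineOpen W), ∃ (φ : k →+* Γ(Z, W)) (i : Spec (.of (letI := φ.toAlgebra; K ⊗[k] Γ(Z, W))) ⟶ Z'),
      letI := φ.toAlgebra
      ∃ _ : IsOpenImmersion i,
      hW.fromSpec ≫ q = Spec.map (CommRingCat.ofHom φ) ∧
      i ≫ q' = Spec.map (CommRingCat.ofHom (algebraMap K (K ⊗[k] Γ(Z, W)))) ∧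
      Set.range i = p ⁻¹' (W : Set Z) := by
    intro W hW
    let φ := (Spec.preimage (hW.fromSpec ≫ q)).hom
    letI := φ.toAlgebra
    have hφ : hW.fromSpec ≫ q = Spec.map (CommRingCat.ofHom φ) := (Spec.map_preimage (hW.fromSpec ≫ q)).symm
    obtain ⟨i, hi, h1, h2⟩ := exists_chart h hW.fromSpec (𝟙 _) (by rw [Category.comp_id]; exact hφ) (Category.comp_id _)
    exact ⟨φ, i, hi, hφ, h1, by rw [h2, hW.range_fromSpec]⟩
  constructor
  · intro hD W hW
    obtain ⟨φ, i, _, hφ, hi, -⟩ := key W hW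
    letI := φ.toAlgebra
    have := (gr_range hΦ q hW.fromSpec φ hφ).2 ((gr_bc hΦ (RingEquiv.refl _) rfl).2
      ((gr_range hΦ q' i _ hi).1 (hD _ (isAffineOpen_opensRange i))))
    rwa [hW.opensRange_fromSpec] at this
  · intro hD
    refine D_of_charts hΦ q' fun z => ?_
    obtain ⟨W, hW, hzW, -⟩ := exists_isAffineOpen_mem_and_subset (X := Z) (x := p z) (U := ⊤) trivial
    obtain ⟨φ, i, hio, hφ, hi, hr⟩ := key W hW
    letI := φ.toAlgebra
    refine ⟨_, inferInstance, i, hio, _, hi, (gr_bc hΦ (RingEquiv.refl _) rfl).1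
      ((gr_range hΦ q hW.fromSpec φ hφ).1 ?_), by rw [hr]; exact hzW⟩
    rw [hW.opensRange_fromSpec]
    exact hD W hW

section Fibre

variable {X Y : Scheme.{u}} (f : X ⟶ Y)

/-- Flat, with fibres satisfying the condition. -/
def Cond (Φ : ∀ (k : Type u) [Field k] (S : Type u) [CommRing S] [Algebra k S], Prop) : Prop :=
  Flat f ∧ ∀ y : Y, D Φ (k := Y.residueField y) (f.fiberToSpecResidueField y)

/-- The affine piece of a fibre given by a chart. -/
theorem exists_fiber_chart (hΦ : Geom Φ) {U : X.Opens} {V : Y.Opens} (hU : IsAffineOpen U) (hV : IsAffineOpen V)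
    (e : U ≤ f ⁻¹ᵁ V) (P : PrimeSpectrum Γ(Y, V)) :
    letI := (f.appLE V U e).hom.toAlgebra
    ∃ (i : Spec (.of (P.asIdeal.Fiber Γ(X, U))) ⟶ f.fiber (hV.fromSpec P)) (_ : IsOpenImmersion i)
      (φ : Y.residueField (hV.fromSpec P) →+* P.asIdeal.Fiber Γ(X, U)),
      i ≫ f.fiberToSpecResidueField (hV.fromSpec P) = Spec.map (CommRingCat.ofHom φ) ∧
      (GR Φ φ ↔ GR Φ (algebraMap P.asIdeal.ResidueField (P.asIdeal.Fiber Γ(X, U)))) ∧
      Set.range i = f.fiberι (hV.fromSpec P) ⁻¹' (U : Set X) := by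
  letI := (f.appLE V U e).hom.toAlgebra
  let ψ : Y.residueField (hV.fromSpec P) ⟶ CommRingCat.of P.asIdeal.ResidueField :=
    hV.fromSpec.residueFieldMap P ≫ (Scheme.Spec.residueFieldIso Γ(Y, V) P).hom
  haveI : IsIso ψ := inferInstanceAs (IsIso (_ ≫ _))
  have hψ : Spec.map (CommRingCat.ofHom (algebraMap Γ(Y, V) P.asIdeal.ResidueField)) ≫ hV.fromSpec =
      Spec.map ψ ≫ Y.fromSpecResidueField (hV.fromSpec P) := by
    simp only [ψ, Spec.map_comp, Category.assoc, Scheme.Hom.SpecMap_residueFieldMap_fromSpecResidueField]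
    rw [← Category.assoc]
    congr 1
    rw [← Scheme.Spec.map_residueFieldIso_inv_eq_fromSpecResidueField, ← Category.assoc, ← Spec.map_comp,
      Iso.inv_hom_id, Spec.map_id, Category.id_comp]
  have h0 : IsPullback (f.fiberι (hV.fromSpec P)) (f.fiberToSpecResidueField (hV.fromSpec P)) f
      (Y.fromSpecResidueField (hV.fromSpec P)) := IsPullback.of_hasPullback _ _
  have h : IsPullback (f.fiberι (hV.fromSpec P)) (f.fiberToSpecResidueField (hV.fromSpec P) ≫ inv (Spec.map ψ)) f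
      (Spec.map ψ ≫ Y.fromSpecResidueField (hV.fromSpec P)) :=
    h0.of_iso (Iso.refl _) (Iso.refl _) (asIso (Spec.map ψ)).symm (Iso.refl _) (by simp) (by simp) (by simp) (by simp)
  obtain ⟨i, hi, hib, hr⟩ := exists_chart h hU.fromSpec hV.fromSpec
    (IsAffineOpen.SpecMap_appLE_fromSpec f hV hU e).symm hψ
  refine ⟨i, hi, (algebraMap P.asIdeal.ResidueField (P.asIdeal.Fiber Γ(X, U))).comp ψ.hom, ?_, ?_, ?_⟩
  · rw [← cancel_mono (inv (Spec.map ψ)), Category.assoc, hib]
    simp only [CommRingCat.ofHom_comp, CommRingCat.ofHom_hom, Spec.map_comp, Category.assoc, IsIso.hom_inv_id, Category.comp_id]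
  · exact (gr_field hΦ (asIso ψ).commRingCatIsoToRingEquiv _).symm
  · rw [hr, hU.range_fromSpec]

theorem cond_iff (hΦ : Geom Φ) : Cond f Φ ↔
    ∀ (U : X.Opens) (V : Y.Opens) (_ : IsAffineOpen U) (_ : IsAffineOpen V) (e : U ≤ f ⁻¹ᵁ V),
      letI := (f.appLE V U e).hom.toAlgebra
      Module.Flat Γ(Y, V) Γ(X, U) ∧ ∀ (p : Ideal Γ(Y, V)) [p.IsPrime],
        GR Φ (algebraMap p.ResidueField (p.Fiber Γ(X, U))) := by
  constructor
  · rintro ⟨hf, hD⟩ U V hU hV e
    letI := (f.appLE V U e).hom.toAlgebra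
    refine ⟨HasRingHomProperty.appLE (P := @Flat) f hf ⟨V, hV⟩ ⟨U, hU⟩ e, fun p _ => ?_⟩
    obtain ⟨i, _, φ, hi, hφ, -⟩ := exists_fiber_chart f hΦ hU hV e ⟨p, ‹_›⟩
    exact hφ.1 ((gr_range hΦ _ i φ hi).1 (hD _ _ (isAffineOpen_opensRange i)))
  · intro h
    refine ⟨(HasRingHomProperty.iff_appLE (P := @Flat)).2 fun V U e => (h U.1 V.1 U.2 V.2 e).1, fun y => ?_⟩
    refine D_of_charts hΦ _ fun z => ?_
    have hy : f (f.fiberι y z) = y := by
      have : f.fiberι y z ∈ Set.range (f.fiberι y) := ⟨z, rfl⟩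
      rwa [f.range_fiberι] at this
    obtain ⟨V, hV, hyV, -⟩ := exists_isAffineOpen_mem_and_subset (X := Y) (x := y) (U := ⊤) trivial
    obtain ⟨U, hU, hxU, hUV⟩ := exists_isAffineOpen_mem_and_subset (U := f ⁻¹ᵁ V) (x := f.fiberι y z)
      (show f (f.fiberι y z) ∈ V by rwa [hy])
    obtain ⟨P, rfl⟩ : y ∈ Set.range hV.fromSpec := by rw [hV.range_fromSpec]; exact hyV
    obtain ⟨i, hio, φ, hi, hφ, hr⟩ := exists_fiber_chart f hΦ hU hV hUV P
    exact ⟨_, inferInstance, i, hio, φ, hi, hφ.2 ((h U V hU hV hUV).2 P.asIdeal), by rw [hr]; exact hxU⟩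

theorem cond_baseChange_iff (hΦ : Geom Φ) {X' Y' : Scheme.{u}} {f' : X' ⟶ Y'} {g' : X' ⟶ X} {g : Y' ⟶ Y}
    [Flat g] [LocallyOfFiniteType g] [Surjective g] (hc : IsPullback g' f' f g) :
    Cond f' Φ ↔ Cond f Φ := by
  haveI : Flat g' := MorphismProperty.of_isPullback hc.flip inferInstance
  haveI : Surjective g' := MorphismProperty.of_isPullback hc.flip inferInstance
  have key : ∀ y' : Y', D Φ (k := Y'.residueField y') (f'.fiberToSpecResidueField y') ↔
      D Φ (k := Y.residueField (g y')) (f.fiberToSpecResidueField (g y')) := by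
    intro y'
    have hsq := isPullback_fiberToSpecResidueField_of_isPullback hc y'
    letI := (g.residueFieldMap y').hom.toAlgebra
    haveI : Algebra.EssFiniteType (Y.residueField (g y')) (Y'.residueField y') := by
      obtain ⟨s, hs⟩ := Goren15.fg_residueFieldMap g y'
      haveI : Algebra.EssFiniteType (Y.residueField (g y')) (⊤ : IntermediateField (Y.residueField (g y')) (Y'.residueField y')) :=
        IntermediateField.essFiniteType_iff.2 ⟨s, hs⟩
      exact Algebra.EssFiniteType.of_surjective (IntermediateField.topEquiv : (⊤ : IntermediateField (Y.residueField (g y')) (Y'.residueField y')) ≃ₐ[_] _).toAlgHom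
        IntermediateField.topEquiv.surjective
    exact D_fieldExt_iff hΦ hsq
  constructor
  · rintro ⟨hf', hD⟩
    haveI : Flat (g' ≫ f) := by rw [hc.w]; infer_instance
    refine ⟨AlgSpDescent.flat_of_comp_flat_surjective g' f, fun y => ?_⟩
    obtain ⟨y', rfl⟩ := g.surjective y
    exact (key y').1 (hD y')
  · rintro ⟨hf, hD⟩
    exact ⟨MorphismProperty.of_isPullback hc hf, fun y' => (key y').2 (hD (g y'))⟩

theorem isLocallyNoetherian_fiber (h : ∀ y : Y, D Φ (k := Y.residueField y) (f.fiberToSpecResidueField y)) (y : Y) :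
    IsLocallyNoetherian (f.fiber y) :=
  ⟨fun W => (h y W.1 W.2).1⟩

end Fibre

end Groth.Agent.FibGR6

namespace Groth.Agent.FibGR6

universe u

open CategoryTheory CategoryTheory.Limits AlgebraicGeometry TensorProduct

variable {Φ : ∀ (k : Type u) [Field k] (S : Type u) [CommRing S] [Algebra k S], Prop}

theorem gr_algebraMap_iff (k S : Type u) [Field k] [CommRing S] [Algebra k S] :
    GR Φ (algebraMap k S) ↔ IsNoetherianRing S ∧ Φ k S := by
  have h : (algebraMap k S).toAlgebra = ‹Algebra k S› := Algebra.algebra_ext _ _ fun _ => rfl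
  simp only [GR]
  rw [h]

theorem regular_iff {X Y : Scheme.{u}} (f : X ⟶ Y) :
    (∀ (U : X.Opens) (V : Y.Opens) (_ : IsAffineOpen U) (_ : IsAffineOpen V) (hUV : U ≤ f ⁻¹ᵁ V),
      letI := (f.appLE V U hUV).hom.toAlgebra
      CAlg.IsRegularHom Γ(Y, V) Γ(X, U)) ↔ Cond f @CAlg.IsGeometricallyRegular.{u} := by
  rw [cond_iff f geom_regular]
  refine forall₅_congr fun U V _ _ hUV => ?_
  letI := (f.appLE V U hUV).hom.toAlgebra
  exact and_congr Iff.rfl (forall₂_congr fun p _ => (gr_algebraMap_iff _ _).symm)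

theorem normal_iff {X Y : Scheme.{u}} (f : X ⟶ Y) :
    ((∀ y : Y, IsLocallyNoetherian (f.fiber y)) ∧
      (∀ (U : X.Opens) (V : Y.Opens) (_ : IsAffineOpen U) (_ : IsAffineOpen V) (hUV : U ≤ f ⁻¹ᵁ V),
      letI := (f.appLE V U hUV).hom.toAlgebra
      EGA4.IsNormalHom Γ(Y, V) Γ(X, U))) ↔ Cond f @EGA4.IsGeomNormal.{u} := by
  constructor
  · rintro ⟨hN, h⟩
    refine (cond_iff f geom_normal).2 fun U V hU hV hUV => ?_
    letI := (f.appLE V U hUV).hom.toAlgebra
    obtain ⟨h1, h2⟩ := h U V hU hV hUV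
    refine ⟨h1, fun p _ => (gr_algebraMap_iff _ _).2 ⟨?_, h2 p⟩⟩
    obtain ⟨i, _, -⟩ := exists_fiber_chart f geom_normal hU hV hUV ⟨p, ‹_›⟩
    haveI := hN (hV.fromSpec ⟨p, ‹_›⟩)
    haveI : IsLocallyNoetherian (Spec (CommRingCat.of (p.Fiber Γ(X, U)))) := isLocallyNoetherian_of_isOpenImmersion i
    haveI : IsNoetherianRing Γ(Spec (CommRingCat.of (p.Fiber Γ(X, U))), ⊤) :=
      IsLocallyNoetherian.component_noetherian ⟨⊤, isAffineOpen_top _⟩
    exact isNoetherianRing_of_ringEquiv _ (Scheme.ΓSpecIso (CommRingCat.of (p.Fiber Γ(X, U)))).commRingCatIsoToRingEquiv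
  · intro hc
    refine ⟨isLocallyNoetherian_fiber f hc.2, fun U V hU hV hUV => ?_⟩
    letI := (f.appLE V U hUV).hom.toAlgebra
    obtain ⟨h1, h2⟩ := (cond_iff f geom_normal).1 hc U V hU hV hUV
    exact ⟨h1, fun p _ => ((gr_algebraMap_iff _ _).1 (h2 p)).2⟩

end Groth.Agent.FibGR6
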